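import Groth.Agent.RlimCrit.Local
import Groth.Agent.LimLib.Tower
import Mathlib.CategoryTheory.Adjunction.Evaluation
import Mathlib.CategoryTheory.Abelian.Injective.Ext
import Mathlib.CategoryTheory.Abelian.RightDerived

/-!
# Higher derived limits of towers with acyclic values
-/

set_option autoImplicit false
set_option backward.isDefEq.respectTransparency false
set_option linter.style.haveILetI false

universe w v v' u u'

open CategoryTheory CategoryTheory.Limits Opposite Abelian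

noncomputable section

namespace Groth.Agent.LimLib

variable {A : Type u} [Category.{v} A] [Abelian A] [∀ a b : ℕᵒᵖ, HasCoproductsOfShape (a ⟶ b) A]

theorem mono_of_sourceEmpty' {a b : ℕᵒᵖ} [IsEmpty (a ⟶ b)] {X Y : A} (m : (∐ fun _ : a ⟶ b => X) ⟶ Y) :
    Mono m :=
  ⟨fun f g _ => IsZero.eq_of_tgt ((IsZero.iff_id_eq_zero _).2 (Sigma.hom_ext _ _ fun i => isEmptyElim i)) f g⟩

instance preservesMonomorphisms_evalLeft (c : ℕᵒᵖ) : (evaluationLeftAdjoint A c).PreservesMonomorphisms := by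
  refine ⟨fun {X Y} m _ => ?_⟩
  refine @NatTrans.mono_of_mono_app _ _ _ _ _ _ _ fun t => ?_
  show Mono (Sigma.desc fun h : c ⟶ t => m ≫ Sigma.ι (fun _ => Y) h)
  rcases isEmpty_or_nonempty (c ⟶ t) with hE | ⟨⟨h₀⟩⟩
  · exact mono_of_sourceEmpty' _
  · have hX : Sigma.desc (fun _ : c ⟶ t => 𝟙 X) ≫ Sigma.ι (fun _ : c ⟶ t => X) h₀ = 𝟙 _ :=
      Sigma.hom_ext _ _ fun h => by rw [Sigma.ι_desc_assoc, Category.id_comp, Category.comp_id, Subsingleton.elim h h₀]
    have hm : (Sigma.desc fun h : c ⟶ t => m ≫ Sigma.ι (fun _ => Y) h) ≫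
        Sigma.desc (fun _ => 𝟙 Y) = Sigma.desc (fun _ => 𝟙 X) ≫ m := by
      ext h
      simp
    refine ⟨fun a b hab => ?_⟩
    have e := congrArg (· ≫ Sigma.desc fun _ : c ⟶ t => 𝟙 Y) hab
    simp only [Category.assoc, hm] at e
    rw [← Category.assoc, ← Category.assoc, cancel_mono] at e
    have e' := congrArg (· ≫ Sigma.ι (fun _ : c ⟶ t => X) h₀) e
    simpa only [Category.assoc, hX, Category.comp_id] using e'

theorem injective_eval (I : ℕᵒᵖ ⥤ A) [Injective I] (c : ℕᵒᵖ) : Injective (I.obj c) :=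
  Injective.injective_of_adjoint (evaluationAdjunctionRight A c) I

/-- Transition maps of the left adjoints of evaluation. -/
def lan (X : A) {c d : ℕᵒᵖ} (f : c ⟶ d) :
    (evaluationLeftAdjoint A d).obj X ⟶ (evaluationLeftAdjoint A c).obj X where
  app t := Sigma.desc fun h : d ⟶ t => Sigma.ι (fun _ : c ⟶ t => X) (f ≫ h)
  naturality t t' k := by
    show Sigma.desc (fun g : d ⟶ t => Sigma.ι (fun _ : d ⟶ t' => X) (g ≫ k)) ≫
        Sigma.desc (fun h : d ⟶ t' => Sigma.ι (fun _ : c ⟶ t' => X) (f ≫ h)) =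
      Sigma.desc (fun h : d ⟶ t => Sigma.ι (fun _ : c ⟶ t => X) (f ≫ h)) ≫
        Sigma.desc (fun g : c ⟶ t => Sigma.ι (fun _ : c ⟶ t' => X) (g ≫ k))
    ext h
    simp

instance mono_lan (X : A) {c d : ℕᵒᵖ} (f : c ⟶ d) : Mono (lan X f) := by
  refine @NatTrans.mono_of_mono_app _ _ _ _ _ _ _ fun t => ?_
  show Mono (Sigma.desc fun h : d ⟶ t => Sigma.ι (fun _ : c ⟶ t => X) (f ≫ h))
  rcases isEmpty_or_nonempty (d ⟶ t) with hE | ⟨⟨h₀⟩⟩
  · exact mono_of_sourceEmpty' _
  · refine (SplitMono.mk (Sigma.desc fun _ : c ⟶ t => Sigma.ι (fun _ : d ⟶ t => X) h₀) ?_).mono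
    refine Sigma.hom_ext _ _ fun h => ?_
    rw [Sigma.ι_desc_assoc, Sigma.ι_desc, Category.comp_id, Subsingleton.elim h h₀]

/-- The transition maps of an injective tower are split epimorphisms. -/
theorem exists_section_of_injective (I : ℕᵒᵖ ⥤ A) [Injective I] {c d : ℕᵒᵖ} (f : c ⟶ d) :
    ∃ s : I.obj d ⟶ I.obj c, s ≫ I.map f = 𝟙 _ := by
  let u : (evaluationLeftAdjoint A d).obj (I.obj d) ⟶ I :=
    { app := fun t => Sigma.desc fun h : d ⟶ t => I.map h
      naturality := fun t t' k => by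
        show Sigma.desc (fun g : d ⟶ t => Sigma.ι (fun _ : d ⟶ t' => I.obj d) (g ≫ k)) ≫
            Sigma.desc (fun h : d ⟶ t' => I.map h) = Sigma.desc (fun h : d ⟶ t => I.map h) ≫ I.map k
        ext h
        simp }
  obtain ⟨w, hw⟩ := Injective.factors u (lan (I.obj d) f)
  refine ⟨Sigma.ι (fun _ : c ⟶ c => I.obj d) (𝟙 c) ≫ w.app c, ?_⟩
  have n : (Sigma.desc fun g : c ⟶ c => Sigma.ι (fun _ : c ⟶ d => I.obj d) (g ≫ f)) ≫ w.app d =
      w.app c ≫ I.map f := w.naturality f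
  have e₁ : Sigma.ι (fun _ : d ⟶ d => I.obj d) (𝟙 d) ≫
      (Sigma.desc fun h : d ⟶ d => Sigma.ι (fun _ : c ⟶ d => I.obj d) (f ≫ h)) ≫ w.app d =
      Sigma.ι (fun _ : d ⟶ d => I.obj d) (𝟙 d) ≫ Sigma.desc fun h : d ⟶ d => I.map h :=
    congrArg (_ ≫ ·) (NatTrans.congr_app hw d)
  rw [Sigma.ι_desc_assoc, Sigma.ι_desc, I.map_id, Category.comp_id] at e₁
  refine (Category.assoc _ _ _).trans ((congrArg (_ ≫ ·) n.symm).trans ?_)
  rw [Sigma.ι_desc_assoc, Category.id_comp]
  exact e₁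

variable [HasExt.{w} A] [HasLimitsOfShape ℕᵒᵖ A]
  [(lim : (ℕᵒᵖ ⥤ A) ⥤ A).Additive] [HasInjectiveResolutions (ℕᵒᵖ ⥤ A)]
  {C : Type u'} [Category.{v'} C] {J : GrothendieckTopology C} {P : C ⥤ A}

variable {E : ℕᵒᵖ ⥤ A} (R : InjectiveResolution E)

/-- The value of an injective resolution of a tower. -/
def evalRes (n : ℕᵒᵖ) : InjectiveResolution (E.obj n) where
  cocomplex := (((evaluation ℕᵒᵖ A).obj n).mapHomologicalComplex _).obj R.cocomplex
  injective j := injective_eval (R.cocomplex.X j) n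
  ι := (HomologicalComplex.singleMapHomologicalComplex ((evaluation ℕᵒᵖ A).obj n) (ComplexShape.up ℕ) 0).inv.app E ≫
    (((evaluation ℕᵒᵖ A).obj n).mapHomologicalComplex _).map R.ι
  quasiIso := quasiIso_comp _ _

/-- The augmentation of a resolution. -/
abbrev aug : E ⟶ R.cocomplex.X 0 :=
  (HomologicalComplex.singleObjXSelf (ComplexShape.up ℕ) 0 E).inv ≫ R.ι.f 0

theorem exists_aug {n : ℕᵒᵖ} {Z : A} (z : Z ⟶ (R.cocomplex.X 0).obj n)
    (hz : z ≫ (R.cocomplex.d 0 1).app n = 0) : ∃ w : Z ⟶ E.obj n, w ≫ (aug R).app n = z := by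
  obtain ⟨w, hw⟩ := KernelFork.IsLimit.lift' (evalRes R n).isLimitKernelFork z hz
  refine ⟨w ≫ (HomologicalComplex.singleObjXSelf (ComplexShape.up ℕ) 0 (E.obj n)).hom, ?_⟩
  rw [← hw]
  show (w ≫ _) ≫ (_ ≫ R.ι.f 0).app n = w ≫ ((HomologicalComplex.singleMapHomologicalComplex
      ((evaluation ℕᵒᵖ A).obj n) (ComplexShape.up ℕ) 0).inv.app E).f 0 ≫ (R.ι.f 0).app n
  rw [HomologicalComplex.singleMapHomologicalComplex_inv_app_self, NatTrans.comp_app]
  simp only [Category.assoc]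
  rfl

theorem aug_inj {n : ℕᵒᵖ} {Z : A} (w w' : Z ⟶ E.obj n) (h : w ≫ (aug R).app n = w' ≫ (aug R).app n) :
    w = w' := by
  haveI : Mono (aug R) := mono_comp _ _
  haveI : Mono ((aug R).app n) := (inferInstance : Mono (((evaluation ℕᵒᵖ A).obj n).map (aug R)))
  exact (cancel_mono _).1 h

variable (B : Set C)
  (hB : ∀ U : C, ∃ (ι : Type v') (Y : ι → C) (f : ∀ i, Y i ⟶ U), Sieve.ofArrows Y f ∈ J U ∧ ∀ i, Y i ∈ B)

include hB in
theorem isZero_rightDerived_lim (hP : RlimCrit.IsLocGen J P)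
    (h1 : ∀ U ∈ B, ∀ (n : ℕ) (k : ℕ), 0 < k → Subsingleton (Ext.{w} (P.obj U) (E.obj (op n)) k))
    (j : ℕ)
    (h2 : ∀ U ∈ B, j = 0 → CohCx.LimOneIsZero (fun n => P.obj U ⟶ E.obj (op n))
      (fun n => Preadditive.rightComp _ (E.map (homOfLE (Nat.le_succ n)).op))) :
    IsZero (((lim : (ℕᵒᵖ ⥤ A) ⥤ A).rightDerived (j + 1)).obj E) := by
  let R := injectiveResolution E
  let tr : ∀ (i n : ℕ), (R.cocomplex.X i).obj (op (n + 1)) ⟶ (R.cocomplex.X i).obj (op n) := fun i n =>
    (R.cocomplex.X i).map (homOfLE (Nat.le_succ n)).op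
  let π : ∀ (i n : ℕ), limit (R.cocomplex.X i) ⟶ (R.cocomplex.X i).obj (op n) := fun i n => limit.π _ _
  have key : ∀ U ∈ B, ∀ x : P.obj U ⟶ limit (R.cocomplex.X (j + 1)),
      x ≫ limMap (R.cocomplex.d (j + 1) (j + 2)) = 0 →
      ∃ y : P.obj U ⟶ limit (R.cocomplex.X j), y ≫ limMap (R.cocomplex.d j (j + 1)) = x := by
    intro U hU x hx
    have hex : ∀ n, ∃ y : P.obj U ⟶ (R.cocomplex.X j).obj (op n),
        y ≫ (R.cocomplex.d j (j + 1)).app (op n) = x ≫ π (j + 1) n := fun n => by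
      have hc : (x ≫ π (j + 1) n) ≫ (R.cocomplex.d (j + 1) (j + 2)).app (op n) = 0 := by
        rw [Category.assoc, ← limMap_π, ← Category.assoc, hx, zero_comp]
      haveI := h1 U hU n (j + 1) j.succ_pos
      exact ((evalRes R (op n)).extMk_eq_zero_iff (x ≫ π (j + 1) n) (j + 2) rfl hc j rfl).1 (Subsingleton.elim _ _)
    choose y hy using hex
    have hnat : ∀ i n, tr i n ≫ (R.cocomplex.d i (i + 1)).app (op n) =
        (R.cocomplex.d i (i + 1)).app (op (n + 1)) ≫ tr (i + 1) n := fun i n =>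
      (R.cocomplex.d i (i + 1)).naturality _
    have hw : ∀ i n, π i (n + 1) ≫ tr i n = π i n := fun i n => limit.w _ _
    have hz : ∀ n, (y n - y (n + 1) ≫ tr j n) ≫ (R.cocomplex.d j (j + 1)).app (op n) = 0 := fun n => by
      rw [Preadditive.sub_comp, Category.assoc, hnat, ← Category.assoc, hy, hy, Category.assoc, hw, sub_self]
    have hfix : ∃ c : ∀ n, P.obj U ⟶ (R.cocomplex.X j).obj (op n),
        (∀ n, c n ≫ (R.cocomplex.d j (j + 1)).app (op n) = 0) ∧
          ∀ n, c n - c (n + 1) ≫ tr j n = y n - y (n + 1) ≫ tr j n := by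
      cases j with
      | zero =>
        choose w hww using fun n => exists_aug R _ (hz n)
        obtain ⟨a, ha⟩ := h2 U hU rfl w
        have hd : aug R ≫ R.cocomplex.d 0 1 = 0 := by
          rw [aug, Category.assoc, R.ι_f_zero_comp_complex_d, comp_zero]
        refine ⟨fun n => a n ≫ (aug R).app (op n), fun n => ?_, fun n => ?_⟩
        · rw [Category.assoc, ← NatTrans.comp_app, hd]
          exact comp_zero
        · rw [← hww n, ← congrFun ha n]
          show _ = (a n - a (n + 1) ≫ E.map (homOfLE (Nat.le_succ n)).op) ≫ _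
          rw [Preadditive.sub_comp, Category.assoc, Category.assoc, (aug R).naturality]
      | succ j =>
        have hex' : ∀ n, ∃ v : P.obj U ⟶ (R.cocomplex.X j).obj (op n),
            v ≫ (R.cocomplex.d j (j + 1)).app (op n) = y n - y (n + 1) ≫ tr (j + 1) n := fun n => by
          haveI := h1 U hU n (j + 1) j.succ_pos
          exact ((evalRes R (op n)).extMk_eq_zero_iff _ (j + 2) rfl (hz n) j rfl).1 (Subsingleton.elim _ _)
        choose v hv using hex'
        obtain ⟨a, ha⟩ := limOneIsZero_of_surjective (A := fun n => P.obj U ⟶ (R.cocomplex.X j).obj (op n))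
          (fun n => Preadditive.rightComp _ (tr j n)) (fun n g => by
            obtain ⟨s, hs⟩ := exists_section_of_injective (R.cocomplex.X j) (homOfLE (Nat.le_succ n)).op
            exact ⟨g ≫ s, (Category.assoc _ _ _).trans ((congrArg (g ≫ ·) hs).trans (Category.comp_id g))⟩) v
        refine ⟨fun n => a n ≫ (R.cocomplex.d j (j + 1)).app (op n), fun n => ?_, fun n => ?_⟩
        · rw [Category.assoc, ← NatTrans.comp_app, R.cocomplex.d_comp_d]
          exact comp_zero
        · rw [← hv n, ← congrFun ha n]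
          show _ = (a n - a (n + 1) ≫ tr j n) ≫ _
          rw [Preadditive.sub_comp, Category.assoc, Category.assoc, hnat]
    obtain ⟨c, hc, hc'⟩ := hfix
    let cone : Cone (R.cocomplex.X j) := Cone.mk (P.obj U)
      (NatTrans.ofOpSequence (F := (Functor.const ℕᵒᵖ).obj (P.obj U)) (fun n => y n - c n) fun n => by
        refine (Category.id_comp _).trans ?_
        show y n - c n = (y (n + 1) - c (n + 1)) ≫ tr j n
        rw [Preadditive.sub_comp]
        have := hc' n
        linear_combination (norm := abel) (-1 : ℤ) • this)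
    refine ⟨limit.lift _ cone, limit.hom_ext fun n => ?_⟩
    rw [Category.assoc, limMap_π, ← Category.assoc, limit.lift_π]
    show (y n.unop - c n.unop) ≫ _ = _
    rw [Preadditive.sub_comp]
    exact (congrArg (_ - ·) (hc n.unop)).trans ((sub_zero _).trans (hy n.unop))
  refine IsZero.of_iso ?_ (R.isoRightDerivedObj (lim : (ℕᵒᵖ ⥤ A) ⥤ A) (j + 1))
  show IsZero (HomologicalComplex.homology _ (j + 1))
  rw [← HomologicalComplex.exactAt_iff_isZero_homology,
    HomologicalComplex.exactAt_iff' _ j (j + 1) (j + 2) (by simp) (by simp)]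
  rw [ShortComplex.exact_iff_epi_toCycles]
  refine Preadditive.epi_of_cancel_zero _ fun k hk => hP.det k fun U x => ?_
  obtain ⟨ι, Y, f, hS, hY⟩ := hB U
  refine hP.sep_family _ Y f hS fun i => ?_
  let S := ((((lim : (ℕᵒᵖ ⥤ A) ⥤ A).mapHomologicalComplex (ComplexShape.up ℕ)).obj R.cocomplex).sc' j (j + 1) (j + 2))
  obtain ⟨y, hy⟩ := key (Y i) (hY i) (P.map (f i) ≫ x ≫ S.iCycles) (by
    rw [Category.assoc, Category.assoc]
    exact (congrArg (fun t => P.map (f i) ≫ x ≫ t) S.iCycles_g).trans (by rw [comp_zero, comp_zero]))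
  have e : P.map (f i) ≫ x = y ≫ S.toCycles := by
    refine (cancel_mono S.iCycles).1 ?_
    rw [Category.assoc, Category.assoc, S.toCycles_i]
    exact hy.symm
  rw [← Category.assoc, e, Category.assoc, hk, comp_zero]

end Groth.Agent.LimLib
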